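import Groth.Prelude.Def_Pi1
import Groth.Agent.Triage.ZMTBir
import Groth.Agent.H23.RedSub
import Groth.Agent.AlgSpLib.EtLocalInst
import Groth.Agent.SchDenseLib.Hom
import Groth.Agent.S5067
import Mathlib.AlgebraicGeometry.ValuativeCriterion

/-!
# Extension of rational sections of unramified formally proper morphisms
-/

universe u

open CategoryTheory Limits AlgebraicGeometry TopologicalSpace

set_option backward.isDefEq.respectTransparency false
set_option backward.isDefEq.respectTransparency.types false
set_option linter.style.haveILetI false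

namespace Groth.Agent.RatSecExt

variable {Z S : Scheme.{u}}

theorem existence_comp_closedImmersion {W : Scheme.{u}} (i : W ⟶ Z) [IsClosedImmersion i] (f : Z ⟶ S)
    (hf : ValuativeCriterion.Existence f) : ValuativeCriterion.Existence (i ≫ f) := by
  have hi : ValuativeCriterion.Existence i := by
    have h : UniversallyClosed i := inferInstance
    rw [UniversallyClosed.eq_valuativeCriterion] at h
    exact h.1
  intro c
  let c₁ : ValuativeCommSq f :=
    { R := c.R, K := c.K, i₁ := c.i₁ ≫ i, i₂ := c.i₂,
      commSq := ⟨by rw [Category.assoc]; exact c.commSq.w⟩ }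
  obtain ⟨(l₀ : Spec (CommRingCat.of c.R) ⟶ Z), h₁, h₂⟩ := (hf c₁).exists_lift
  let c₂ : ValuativeCommSq i := { R := c.R, K := c.K, i₁ := c.i₁, i₂ := l₀, commSq := ⟨h₁.symm⟩ }
  obtain ⟨(l : Spec (CommRingCat.of c.R) ⟶ W), h₃, h₄⟩ := (hi c₂).exists_lift
  refine ⟨⟨⟨l, h₃, ?_⟩⟩⟩
  change l ≫ i = l₀ at h₄
  change l₀ ≫ f = c.i₂ at h₂
  rw [reassoc_of% h₄, h₂]

/-- Rational sections over a normal integral base extend. -/
theorem exists_section_of_integral [IsIntegral S] [IsLocallyNoetherian S]
    (hS : ∀ s : S, IsIntegrallyClosed (S.presheaf.stalk s)) (f : Z ⟶ S) [IsSeparated f]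
    [FormallyUnramified f] [LocallyOfFiniteType f] (hfp : ValuativeCriterion.Existence f)
    (U : S.Opens) (hU : (U : Set S).Nonempty) (v : (U : Scheme.{u}) ⟶ Z) (hv : v ≫ f = U.ι) :
    ∃ w : S ⟶ Z, w ≫ f = 𝟙 S ∧ U.ι ≫ w = v := by
  haveI : Nonempty (U : Scheme.{u}) := hU.to_subtype
  haveI : IsIntegral (U : Scheme.{u}) := isIntegral_of_isOpenImmersion U.ι
  let ξ : Z := v (genericPoint U)
  let C : Closeds Z := ⟨closure {ξ}, isClosed_closure⟩
  let Z' := (Scheme.IdealSheafData.vanishingIdeal C).subscheme
  let ι : Z' ⟶ Z := (Scheme.IdealSheafData.vanishingIdeal C).subschemeι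
  haveI : IsClosedImmersion ι := inferInstanceAs
    (IsClosedImmersion (Scheme.IdealSheafData.vanishingIdeal C).subschemeι)
  haveI : IsReduced Z' := H23.RedSub.isReduced_vanishingIdeal C
  have hrange : Set.range ι = closure {ξ} := H23.RedSub.range_vanishingIdeal C
  obtain ⟨z₀, hz₀⟩ : ξ ∈ Set.range ι := hrange ▸ subset_closure rfl
  have hgenpt : IsGenericPoint z₀ (Set.univ : Set Z') := by
    rw [isGenericPoint_iff_specializes]
    refine fun y => ⟨fun _ => trivial, fun _ => ?_⟩
    rw [← ι.isEmbedding.toIsInducing.specializes_iff, specializes_iff_mem_closure, hz₀, ← hrange]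
    exact ⟨y, rfl⟩
  haveI : IrreducibleSpace Z' := {
    toNonempty := ⟨z₀⟩
    isPreirreducible_univ := hgenpt.isIrreducible.2 }
  haveI : IsIntegral Z' := isIntegral_of_irreducibleSpace_of_isReduced Z'
  have hz₀' : genericPoint Z' = z₀ := (genericPoint_spec Z').eq hgenpt
  obtain ⟨v', hv'⟩ := H23.RedSub.exists_lift_closed v ι (by
    rintro _ ⟨t, rfl⟩
    rw [hrange]
    exact specializes_iff_mem_closure.1
      (((genericPoint_spec (U : Scheme.{u})).specializes trivial).map v.continuous))
  let g : Z' ⟶ S := ι ≫ f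
  have hvg : v' ≫ g = U.ι := by rw [reassoc_of% hv', hv]
  have hv'g : v' (genericPoint U) = genericPoint Z' := by
    apply ι.isEmbedding.injective
    rw [hz₀', hz₀, ← Scheme.Hom.comp_apply, hv']
  have hgen : g (genericPoint Z') = genericPoint S := by
    rw [← hv'g, ← Scheme.Hom.comp_apply, hvg]
    exact genericPoint_eq_of_isOpenImmersion U.ι
  haveI : FormallyUnramified g :=
    MorphismProperty.comp_mem @FormallyUnramified ι f inferInstance inferInstance
  haveI : LocallyQuasiFinite g := AlgSpLib.locallyQuasiFinite_of_formallyUnramified g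
  have hbir : IsIso (g.stalkMap (genericPoint Z')) := by
    obtain ⟨z, hz⟩ : ∃ z, z = v' (genericPoint U) := ⟨_, rfl⟩
    have h1 : IsIso (g.stalkMap (v' (genericPoint U)) ≫ v'.stalkMap (genericPoint U)) := by
      rw [← Scheme.Hom.stalkMap_comp, Scheme.Hom.stalkMap_congr_hom _ U.ι hvg]
      infer_instance
    rw [← hv'g]
    have hinj : Function.Injective (v'.stalkMap (genericPoint U)).hom := by
      rw [injective_iff_map_eq_zero]
      intro x hx
      by_contra hne
      have hF : IsField (Z'.presheaf.stalk (v' (genericPoint U))) := by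
        rw [hv'g]; exact Field.toIsField Z'.functionField
      obtain ⟨y, hy⟩ := hF.mul_inv_cancel hne
      have := congrArg (v'.stalkMap (genericPoint U)).hom hy
      rw [map_mul, hx, zero_mul, map_one] at this
      exact zero_ne_one this
    have h2 := (ConcreteCategory.isIso_iff_bijective _).1 h1
    rw [ConcreteCategory.isIso_iff_bijective]
    refine ⟨fun a b hab => h2.1 ?_, fun c => ?_⟩
    · exact congrArg (v'.stalkMap (genericPoint U)) hab
    · obtain ⟨a, ha⟩ := h2.2 (v'.stalkMap (genericPoint U) c)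
      exact ⟨a, hinj ha⟩
  haveI : QuasiSeparatedSpace S := inferInstance
  haveI : Etale g := by
    refine IsZariskiLocalAtSource.of_iSup_eq_top (P := @Etale) (fun W : Z'.affineOpens => W.1)
      (iSup_affineOpens_eq_top Z') fun W => ?_
    by_cases hne : Nonempty (W.1 : Scheme.{u})
    · haveI : IsIntegral (W.1 : Scheme.{u}) := isIntegral_of_isOpenImmersion W.1.ι
      haveI : IsAffine (W.1 : Scheme.{u}) := W.2
      have hWgen : W.1.ι (genericPoint W.1) = genericPoint Z' :=
        genericPoint_eq_of_isOpenImmersion W.1.ι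
      haveI : IsOpenImmersion (W.1.ι ≫ g) := by
        refine Triage.ZMTBir.isOpenImmersion_of_birational hS _ ?_ ?_
        · rw [Scheme.Hom.comp_apply, hWgen, hgen]
        · rw [Scheme.Hom.stalkMap_comp]
          haveI : IsIso (g.stalkMap (W.1.ι (genericPoint W.1))) := by rw [hWgen]; exact hbir
          infer_instance
      infer_instance
    · haveI : IsEmpty (W.1 : Scheme.{u}) := not_nonempty_iff.1 hne
      haveI : IsOpenImmersion (W.1.ι ≫ g) := inferInstance
      infer_instance
  haveI : IsOpenImmersion g := by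
    refine S5067.result g hgen ⟨(g.residueFieldMap _).hom.injective, fun c => ?_⟩
    obtain ⟨b, rfl⟩ := Ideal.Quotient.mk_surjective c
    obtain ⟨a, rfl⟩ := ((ConcreteCategory.isIso_iff_bijective _).1 hbir).2 b
    exact ⟨S.residue _ a, rfl⟩
  haveI : Surjective g := ⟨fun s => by
    have hsp : g (genericPoint Z') ⤳ s := hgen ▸ (genericPoint_spec S).specializes trivial
    obtain ⟨y, -, hy⟩ := ValuativeCriterion.Existence.specializingMap (f := g)
      (existence_comp_closedImmersion ι f hfp) hsp
    exact ⟨y, hy⟩⟩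
  haveI : IsIso g := (isIso_iff_isOpenImmersion_and_surjective g).2 ⟨inferInstance, inferInstance⟩
  refine ⟨inv g ≫ ι, by rw [Category.assoc]; exact IsIso.inv_hom_id g, ?_⟩
  rw [← hvg, Category.assoc, IsIso.hom_inv_id_assoc, hv']

end Groth.Agent.RatSecExt
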